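import Groth.Agent.Lib.CSA.Centralizer
import Groth.Agent.Lib.CSA.Subfield
import Mathlib.FieldTheory.Galois.Basic
import Mathlib.FieldTheory.Separable
import Mathlib.FieldTheory.IsAlgClosed.AlgebraicClosure
import Mathlib.Algebra.CharP.Algebra
import Mathlib.Tactic.NoncommRing

set_option autoImplicit false

/-!
# Division algebras of prime degree in positive characteristic
-/

universe u v w

open Polynomial Module

namespace GrothLib.BddFinDiv

variable {K : Type u} [Field K] {A : Type v} [DivisionRing A] [Algebra K A]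

section Prime

variable {p : ℕ} [Fact p.Prime] [CharP K p]

theorem not_isSeparable_of_pow_mem {v : A} (hv : v ^ p ∈ (algebraMap K A).range)
    (hv' : v ∉ (algebraMap K A).range) : ¬ IsSeparable K v := by
  intro hsep
  obtain ⟨c, hc⟩ := hv
  refine hv' ?_
  have hp := (Fact.out : p.Prime)
  have hne : (X ^ p - C c : K[X]) ≠ 0 := X_pow_sub_C_ne_zero hp.pos c
  have hint : IsIntegral K v := ⟨X ^ p - C c, monic_X_pow_sub_C c hp.ne_zero, by simp [hc]⟩
  have hdvd : minpoly K v ∣ X ^ p - C c := minpoly.dvd K v (by simp [hc])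
  let Ω := AlgebraicClosure K
  obtain ⟨r, hr⟩ := IsAlgClosed.exists_pow_nat_eq (algebraMap K Ω c) hp.pos
  have : CharP Ω p := charP_of_injective_algebraMap (algebraMap K Ω).injective p
  have hfac : (X ^ p - C c : K[X]).map (algebraMap K Ω) = (X - C r) ^ p := by
    rw [sub_pow_char]
    simp [← C_pow, hr]
  have h1 := Polynomial.map_dvd (algebraMap K Ω) hdvd
  rw [hfac, dvd_prime_pow (prime_X_sub_C r)] at h1
  obtain ⟨i, -, hi⟩ := h1
  have hsq : Squarefree ((minpoly K v).map (algebraMap K Ω)) := (Polynomial.Separable.map (f := algebraMap K Ω) hsep).squarefree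
  have hi1 : i ≤ 1 := by
    by_contra h
    have h2 : (X - C r) * (X - C r) ∣ (minpoly K v).map (algebraMap K Ω) :=
      (dvd_trans (by rw [← sq]; exact pow_dvd_pow _ (by omega)) hi.symm.dvd)
    exact (prime_X_sub_C r).not_unit (hsq _ h2)
  have hdeg : (minpoly K v).natDegree ≤ 1 := by
    have := natDegree_le_of_dvd hi.dvd (pow_ne_zero i (X_sub_C_ne_zero r))
    rw [natDegree_map] at this
    simpa using this.trans (by simpa using hi1)
  exact minpoly.natDegree_eq_one_iff.1
    (le_antisymm hdeg (minpoly.natDegree_pos hint))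

end Prime

variable [FiniteDimensional K A]

/-- A finite dimensional commutative subalgebra of a division algebra. -/
theorem exists_adjoin_field (a : A) :
    ∃ S : Subalgebra K A, S = Algebra.adjoin K {a} ∧ ∀ x ∈ S, ∀ y ∈ S, x * y = y * x :=
  ⟨Algebra.adjoin K {a}, rfl, fun x hx y hy => by
    have h : Algebra.adjoin K {a} ≤ Subalgebra.centralizer K (Algebra.adjoin K {a} : Set A) :=
      Algebra.adjoin_le fun z hz => by
        rw [Set.mem_singleton_iff] at hz
        subst hz
        refine (Subalgebra.mem_centralizer_iff K).2 fun g hg => ?_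
        exact (Algebra.commute_of_mem_adjoin_of_forall_mem_commute hg fun b hb => by
          rw [Set.mem_singleton_iff] at hb; subst hb; exact Commute.refl _).symm
    exact ((Subalgebra.mem_centralizer_iff K).1 (h hy) x hx)⟩

theorem commute_adjoin {a b : A} (h : Commute b a) {x : A} (hx : x ∈ Algebra.adjoin K {a}) :
    Commute b x :=
  Algebra.commute_of_mem_adjoin_of_forall_mem_commute hx fun c hc => by
    rw [Set.mem_singleton_iff] at hc; subst hc; exact h

theorem mem_range_of_commute_all [Algebra.IsCentral K A] {x : A} (h : ∀ y, y * x = x * y) :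
    x ∈ (algebraMap K A).range := by
  obtain ⟨c, hc⟩ := (Algebra.IsCentral.mem_center_iff K).1 (Subalgebra.mem_center_iff.2 h)
  exact ⟨c, hc.symm⟩

theorem finrank_adjoin_eq [Algebra.IsCentral K A] {p : ℕ} (hp : p.Prime)
    (hA : finrank K A = p ^ 2) {a : A} (ha : a ∉ (algebraMap K A).range) :
    finrank K (Algebra.adjoin K {a}) = p ∧
      Subalgebra.centralizer K (Algebra.adjoin K {a} : Set A) = Algebra.adjoin K {a} := by
  obtain ⟨S, hS, hcomm⟩ := exists_adjoin_field (K := K) a
  rw [← hS]
  have hfield := CSA.isField_of_comm S hcomm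
  obtain ⟨-, hdim⟩ := CSA.centralizer_theorem S
  have hsub : S ≤ Subalgebra.centralizer K (S : Set A) := fun x hx =>
    (Subalgebra.mem_centralizer_iff K).2 fun y hy => hcomm y hy x hx
  have hle := LinearMap.finrank_le_finrank_of_injective
    (f := (Subalgebra.inclusion hsub).toLinearMap) (Subalgebra.inclusion_injective hsub)
  have hne : finrank K S ≠ 1 := fun h => ha (by
    have := Subalgebra.bot_eq_top_iff_finrank_eq_one (F := K) (E := S) |>.2 h
    have hmem : (⟨a, hS ▸ Algebra.self_mem_adjoin_singleton K a⟩ : S) ∈ (⊥ : Subalgebra K S) := by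
      rw [this]; trivial
    obtain ⟨c, hc⟩ := hmem
    exact ⟨c, congr_arg Subtype.val hc⟩)
  rw [hA] at hdim
  obtain ⟨i, hi, hSi⟩ := (Nat.dvd_prime_pow hp).1 (Dvd.intro _ hdim.symm)
  rw [hSi] at hne hdim hle
  have hSp : finrank K S = p ∧ finrank K (Subalgebra.centralizer K (S : Set A)) = p := by
    interval_cases i
    · simp at hne
    · refine ⟨by rw [hSi, pow_one], Nat.eq_of_mul_eq_mul_left hp.pos (?_)⟩
      rw [pow_one] at hdim; rw [← hdim, sq]
    · exfalso
      have h1 : finrank K (Subalgebra.centralizer K (S : Set A)) = 1 :=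
        Nat.eq_of_mul_eq_mul_left (pow_pos hp.pos 2) (by rw [← hdim, mul_one])
      rw [h1] at hle
      exact absurd hle (not_le.2 (Nat.one_lt_pow two_ne_zero hp.one_lt))
  exact ⟨hSp.1, (Subalgebra.eq_of_le_of_finrank_eq hsub (by rw [hSp.1, hSp.2])).symm⟩

omit [FiniteDimensional K A] in
theorem finrank_adjoin_eq_natDegree (a : A) :
    finrank K (Algebra.adjoin K {a}) = (minpoly K a).natDegree := by
  rw [Algebra.adjoin_singleton_eq_range_aeval,
    ← (Ideal.quotientKerEquivRange (Polynomial.aeval (R := K) a)).toLinearEquiv.finrank_eq,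
    (Ideal.quotientEquivAlgOfEq K (minpoly.ker_aeval_eq_span_minpoly K a)).toLinearEquiv.finrank_eq,
    finrank_quotient_span_eq_natDegree]

theorem mem_adjoin_of_commute [Algebra.IsCentral K A] {p : ℕ} (hp : p.Prime)
    (hA : finrank K A = p ^ 2) {a : A} (ha : a ∉ (algebraMap K A).range) {x : A}
    (hx : Commute x a) : x ∈ Algebra.adjoin K {a} := by
  rw [← (finrank_adjoin_eq hp hA ha).2]
  exact (Subalgebra.mem_centralizer_iff K).2 fun g hg => (commute_adjoin hx hg).symm.eq

/-- An element commuting with two noncommuting elements is central. -/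
theorem mem_range_of_commute₂ [Algebra.IsCentral K A] {p : ℕ} (hp : p.Prime)
    (hA : finrank K A = p ^ 2) {a b x : A} (hab : ¬ Commute a b) (hxa : Commute x a)
    (hxb : Commute x b) : x ∈ (algebraMap K A).range := by
  by_contra hx
  exact hab (commute_adjoin (a := x) hxa.symm (mem_adjoin_of_commute hp hA hx hxb.symm))

/-- Conjugation normalising a maximal subfield: its `p`-th power is central. -/
theorem pow_mem_of_normalize [Algebra.IsCentral K A] {p : ℕ} (hp : p.Prime)
    (hA : finrank K A = p ^ 2) {a y : A} (ha : a ∉ (algebraMap K A).range) (hy : y ≠ 0)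
    (hya : y * a * y⁻¹ ∈ Algebra.adjoin K {a}) (hne : y * a * y⁻¹ ≠ a) :
    y ^ p ∈ (algebraMap K A).range ∧ y ∉ (algebraMap K A).range ∧
      ∀ (S : Subalgebra K A), S = Algebra.adjoin K {a} → ∃ σ : S ≃ₐ[K] S,
        (∀ x : S, (σ x : A) = y * x * y⁻¹) ∧ σ ≠ 1 ∧ Nat.card (Subgroup.zpowers σ) = p := by
  have hyK : y ∉ (algebraMap K A).range := by
    rintro ⟨c, rfl⟩
    exact hne (by rw [Algebra.commutes, mul_inv_cancel_right₀ hy])
  obtain ⟨S, hS, hcomm⟩ := exists_adjoin_field (K := K) a
  let conj : A →ₐ[K] A :=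
    { toFun := fun x => y * x * y⁻¹
      map_one' := by simp [hy]
      map_mul' := fun x z => by simp [mul_assoc, hy]
      map_zero' := by simp
      map_add' := fun x z => by simp [mul_add, add_mul]
      commutes' := fun c => by rw [← Algebra.commutes, mul_inv_cancel_right₀ hy] }
  have hmap : ∀ x ∈ S, conj x ∈ S := by
    intro x hx
    have h2 : Subalgebra.map conj (Algebra.adjoin K {a}) ≤ Algebra.adjoin K {a} := by
      rw [AlgHom.map_adjoin, Set.image_singleton, Algebra.adjoin_le_iff, Set.singleton_subset_iff]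
      exact hya
    rw [hS] at hx ⊢
    exact h2 ⟨x, hx, rfl⟩
  let : CommRing S := { S.toRing with mul_comm := fun x z => Subtype.ext (hcomm x x.2 z z.2) }
  let := fieldOfFiniteDimensional K S
  let f : S →ₐ[K] S := (conj.comp S.val).codRestrict S fun x => hmap x x.2
  have hbij : Function.Bijective f :=
    ⟨f.toRingHom.injective, (LinearMap.injective_iff_surjective (f := f.toLinearMap)).1
      f.toRingHom.injective⟩
  let σ : S ≃ₐ[K] S := AlgEquiv.ofBijective f hbij
  have hσ : ∀ x : S, (σ x : A) = y * x * y⁻¹ := fun x => rfl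
  have hσne : σ ≠ 1 := fun h => hne (by
    have := hσ ⟨a, hS ▸ Algebra.self_mem_adjoin_singleton K a⟩
    rw [h] at this
    exact this.symm)
  have hSp : finrank K S = p := by rw [hS]; exact (finrank_adjoin_eq hp hA ha).1
  have hcard : Nat.card (Subgroup.zpowers σ) = p := by
    have h1 := IntermediateField.finrank_fixedField_eq_card (F := K) (E := S) (Subgroup.zpowers σ)
    have h2 := Module.finrank_mul_finrank K (IntermediateField.fixedField (Subgroup.zpowers σ)) S
    rw [h1, hSp] at h2
    rcases hp.eq_one_or_self_of_dvd _ (Dvd.intro_left _ h2) with h | h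
    · rw [Nat.card_zpowers] at h
      exact absurd (orderOf_eq_one_iff.1 h) hσne
    · exact h
  have hpow : ∀ (m : ℕ) (x : S), ((σ ^ m) x : A) = y ^ m * x * (y ^ m)⁻¹ := by
    intro m
    induction m with
    | zero => intro x; simp
    | succ m ih =>
      intro x
      rw [pow_succ', AlgEquiv.mul_apply, hσ, ih, pow_succ' y, mul_inv_rev]
      simp [mul_assoc]
  have hfix : Commute (y ^ p) a := by
    have h := hpow p ⟨a, hS ▸ Algebra.self_mem_adjoin_singleton K a⟩
    have h1 : σ ^ p = 1 := by rw [← hcard, Nat.card_zpowers, pow_orderOf_eq_one]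
    rw [h1, AlgEquiv.one_apply] at h
    exact ((eq_mul_inv_iff_mul_eq₀ (pow_ne_zero p hy)).1 h).symm
  refine ⟨mem_range_of_commute₂ hp hA (a := a) (b := y) ?_ hfix (Commute.pow_self y p), hyK,
    fun T hT => ?_⟩
  · intro h
    exact hne (by rw [← h.eq, mul_inv_cancel_right₀ hy])
  · subst hS hT
    exact ⟨σ, hσ, hσne, hcard⟩

end GrothLib.BddFinDiv
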