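import Groth.Agent.Lib.RedNorm.Rat
import Mathlib.FieldTheory.IsAlgClosed.AlgebraicClosure
import Mathlib.LinearAlgebra.Matrix.Charpoly.Eigs

set_option autoImplicit false

/-!
# Elements of finite order modulo scalars, all roots of unity present
-/

universe u v

open Polynomial Module

namespace GrothLib.BddFinDiv

variable {K : Type u} [Field K] (hK : ∀ n : ℕ, 0 < n → (X ^ n - 1 : K[X]).Splits)

include hK

theorem mem_range_of_pow_eq_one {Ω : Type*} [Field Ω] [Algebra K Ω] {ζ : Ω} {m : ℕ} (hm : 0 < m)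
    (h : ζ ^ m = 1) : ζ ∈ (algebraMap K Ω).range := by
  have hne : (X ^ m - 1 : K[X]).map (algebraMap K Ω) ≠ 0 := by
    simpa using X_pow_sub_C_ne_zero (R := Ω) hm 1
  have h1 : ζ ∈ ((X ^ m - 1 : K[X]).map (algebraMap K Ω)).roots := by
    rw [mem_roots hne]; simp [h]
  rw [(hK m hm).roots_map, Multiset.mem_map] at h1
  obtain ⟨c, -, rfl⟩ := h1
  exact ⟨c, rfl⟩

theorem exists_binomials {Ω : Type*} [Field Ω] [Algebra K Ω] [IsAlgClosed Ω] {α : Ω} (hα : α ≠ 0)
    {m : ℕ} (hm : 0 < m) {r : ℕ} (hr : 0 < r) (hαr : α ^ r ∈ (algebraMap K Ω).range)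
    (hmin : ∀ j, α ^ j ∈ (algebraMap K Ω).range → r ∣ j) :
    ∀ (d : ℕ) (Q : K[X]), Q.Monic → Q.natDegree = d →
      (∀ t : Ω, aeval t Q = 0 → t ^ m = α ^ m) →
      ∃ s : Multiset K, Q = (s.map fun a : K => X ^ r - C a).prod := by
  intro d
  induction d using Nat.strong_induction_on with
  | _ d ih =>
    intro Q hQ hd hroot
    rcases Nat.eq_zero_or_pos d with rfl | hd0
    · exact ⟨0, by rw [Multiset.map_zero, Multiset.prod_zero]; exact hQ.natDegree_eq_zero.1 hd⟩
    obtain ⟨t, ht⟩ := IsAlgClosed.exists_aeval_eq_zero Ω Q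
      (fun h => hd0.ne' (hd ▸ natDegree_eq_zero_iff_degree_le_zero.2 h.le))
    obtain ⟨z, hz⟩ := mem_range_of_pow_eq_one hK (ζ := t / α) hm
      (by rw [div_pow, hroot t ht, div_self (pow_ne_zero _ hα)])
    have htα : t = algebraMap K Ω z * α := by rw [hz, div_mul_cancel₀ _ hα]
    have hz0 : z ≠ 0 := fun h => by
      rw [h, map_zero, eq_comm, div_eq_zero_iff] at hz
      have := hroot t ht
      rw [hz.resolve_right hα, zero_pow hm.ne'] at this
      exact pow_ne_zero _ hα this.symm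
    obtain ⟨c, hc⟩ : t ^ r ∈ (algebraMap K Ω).range := by
      rw [htα, mul_pow]
      exact mul_mem ⟨z ^ r, map_pow _ _ _⟩ hαr
    have hint : IsIntegral K t := ⟨Q, hQ, ht⟩
    have hdvd : minpoly K t ∣ X ^ r - C c := minpoly.dvd K t (by simp [hc])
    -- the degree of the minimal polynomial is a multiple of `r`
    set P := minpoly K t with hP
    have hPsplit := IsAlgClosed.splits (P.map (algebraMap K Ω))
    have hprod : ∀ s ∈ (P.map (algebraMap K Ω)).roots, ∃ z : K, s = algebraMap K Ω z * α := by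
      intro s hs
      rw [mem_roots ((minpoly.monic hint).map _).ne_zero] at hs
      have hs' : s ^ r = algebraMap K Ω c := by
        have := hs.dvd (Polynomial.map_dvd _ hdvd)
        simpa [IsRoot, sub_eq_zero] using this
      obtain ⟨w, hw⟩ := mem_range_of_pow_eq_one hK (ζ := s / t) hr
        (by rw [div_pow, hs', hc, div_self (pow_ne_zero _ ?_)]; rw [htα]; simp [hz0, hα])
      refine ⟨w * z, ?_⟩
      rw [map_mul, mul_assoc, ← htα, hw, div_mul_cancel₀]
      rw [htα]; simp [hz0, hα]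
    have hdeg : P = X ^ r - C c := by
      refine (eq_of_monic_of_dvd_of_natDegree_le (minpoly.monic hint)
        (monic_X_pow_sub_C c hr.ne') hdvd ?_).symm
      rw [natDegree_X_pow_sub_C]
      refine Nat.le_of_dvd (minpoly.natDegree_pos hint) (hmin _ ?_)
      choose f hf using hprod
      have h2 := hPsplit.coeff_zero_eq_prod_roots_of_monic ((minpoly.monic hint).map _)
      have h3 : ∀ (S : Multiset Ω), (∀ s ∈ S, ∃ z : K, s = algebraMap K Ω z * α) →
          ∃ z : K, S.prod = algebraMap K Ω z * α ^ Multiset.card S := by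
        intro S
        induction S using Multiset.induction_on with
        | empty => exact fun _ => ⟨1, by simp⟩
        | cons a S ihS =>
          intro h
          obtain ⟨z₁, h₁⟩ := h a (Multiset.mem_cons_self a S)
          obtain ⟨z₂, h₂⟩ := ihS fun s hs => h s (Multiset.mem_cons_of_mem hs)
          exact ⟨z₁ * z₂, by rw [Multiset.prod_cons, h₁, h₂, Multiset.card_cons, map_mul, pow_succ]; ring⟩
      obtain ⟨w, hw⟩ := h3 _ fun s hs => ⟨f s hs, hf s hs⟩
      rw [hw, ← hPsplit.natDegree_eq_card_roots, natDegree_map, coeff_map] at h2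
      have hP0 : P.coeff 0 ≠ 0 := minpoly.coeff_zero_ne_zero hint (by rw [htα]; simp [hz0, hα])
      have hw0 : w ≠ 0 := fun h => hP0 (by
        rw [h, map_zero, zero_mul, mul_zero] at h2
        exact (map_eq_zero _).1 h2)
      refine ⟨P.coeff 0 * ((-1) ^ P.natDegree * w)⁻¹, ?_⟩
      rw [map_mul, h2, map_inv₀, map_mul, map_pow, map_neg, map_one]
      have : algebraMap K Ω w ≠ 0 := by simpa using hw0
      rw [hP]
      field_simp
    obtain ⟨Q', hQ'⟩ := minpoly.dvd K t ht
    rw [← hP, hdeg] at hQ'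
    have hXr : (X ^ r - C c : K[X]).Monic := monic_X_pow_sub_C c hr.ne'
    have hQ'm : Q'.Monic := hXr.of_mul_monic_left (hQ' ▸ hQ)
    have hd' : r + Q'.natDegree = d := by
      rw [← hd, hQ', hXr.natDegree_mul hQ'm, natDegree_X_pow_sub_C]
    obtain ⟨s, hs⟩ := ih Q'.natDegree (by omega) Q' hQ'm rfl
      (fun u hu => hroot u (by rw [hQ', map_mul, hu, mul_zero]))
    exact ⟨c ::ₘ s, by rw [Multiset.map_cons, Multiset.prod_cons, ← hs, hQ']⟩

theorem minpoly_binomials {A : Type v} [Ring A] [Algebra K A] [Algebra.IsCentral K A]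
    [IsSimpleRing A] [FiniteDimensional K A] (n : ℕ) (hn : finrank K A = n ^ 2)
    (x : A) (hx : IsUnit x) (hxm : ∃ m : ℕ, 0 < m ∧ x ^ m ∈ (algebraMap K A).range) :
    ∃ r : ℕ, 0 < r ∧ r ∣ n ∧ ∃ s : Multiset K, minpoly K x = (s.map fun a : K => X ^ r - C a).prod := by
  classical
  obtain ⟨m, hm, a, ha⟩ := hxm
  have ha0 : a ≠ 0 := fun h => by
    rw [h, map_zero] at ha
    exact not_isUnit_zero (ha ▸ hx.pow m)
  let Ω := AlgebraicClosure K
  obtain ⟨α, hαm⟩ := IsAlgClosed.exists_pow_nat_eq (algebraMap K Ω a) hm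
  have hα : α ≠ 0 := fun h => ha0 ((map_eq_zero (algebraMap K Ω)).1 (by
    rw [← hαm, h, zero_pow hm.ne']))
  have hex : ∃ r, 0 < r ∧ α ^ r ∈ (algebraMap K Ω).range := ⟨m, hm, a, hαm.symm⟩
  let r := Nat.find hex
  obtain ⟨hr, c₀, hc₀⟩ := Nat.find_spec hex
  have hc₀0 : c₀ ≠ 0 := fun h => pow_ne_zero r hα (by rw [← hc₀, h, map_zero])
  have hmin : ∀ j, α ^ j ∈ (algebraMap K Ω).range → r ∣ j := by
    intro j hj
    refine Nat.dvd_of_mod_eq_zero (Nat.eq_zero_of_not_pos fun h => ?_)
    refine Nat.find_min hex (Nat.mod_lt j hr) ⟨h, ?_⟩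
    obtain ⟨cj, hcj⟩ := hj
    refine ⟨cj * (c₀ ^ (j / r))⁻¹, ?_⟩
    rw [map_mul, map_inv₀, map_pow, hcj, hc₀, ← pow_mul, eq_comm,
      eq_mul_inv_iff_mul_eq₀ (pow_ne_zero _ hα), ← pow_add, Nat.mod_add_div]
  obtain ⟨g⟩ := RedNorm.exists_rep (L := Ω) hn
  obtain ⟨c, hc⟩ := RedNorm.exists_det_eq hn g x
  have hgm : g x ^ m = algebraMap Ω (Matrix (Fin n) (Fin n) Ω) (α ^ m) := by
    rw [← map_pow, ← ha, AlgHom.commutes, hαm, ← IsScalarTower.algebraMap_apply]
  have heig : ∀ t ∈ (g x).charpoly.roots, ∃ z : K, t = algebraMap K Ω z * α := by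
    intro t ht
    rw [mem_roots (g x).charpoly_monic.ne_zero, IsRoot, Matrix.eval_charpoly,
      ← Matrix.exists_mulVec_eq_zero_iff] at ht
    obtain ⟨v, hv, hv'⟩ := ht
    rw [Matrix.sub_mulVec, sub_eq_zero, Matrix.scalar_apply] at hv'
    have hpow : ∀ j : ℕ, (g x ^ j).mulVec v = t ^ j • v := fun j => by
      induction j with
      | zero => simp
      | succ j ihj =>
        have hdv : (Matrix.diagonal fun _ : Fin n => t).mulVec v = t • v := by
          ext i; simp [Matrix.mulVec_diagonal]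
        rw [pow_succ, ← Matrix.mulVec_mulVec, ← hv', hdv, Matrix.mulVec_smul, ihj, smul_smul,
          pow_succ']
    have h1 := hpow m
    rw [hgm, Algebra.algebraMap_eq_smul_one, Matrix.smul_mulVec, Matrix.one_mulVec] at h1
    obtain ⟨z, hz⟩ := mem_range_of_pow_eq_one hK (ζ := t / α) hm (by
      rw [div_pow, div_eq_one_iff_eq (pow_ne_zero _ hα)]
      exact (smul_left_injective Ω hv h1).symm)
    exact ⟨z, by rw [hz, div_mul_cancel₀ _ hα]⟩
  have hsplit := IsAlgClosed.splits (g x).charpoly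
  have hdet := Matrix.det_eq_prod_roots_charpoly (g x)
  have hcard : Multiset.card (g x).charpoly.roots = n := by
    rw [← hsplit.natDegree_eq_card_roots, Matrix.charpoly_natDegree_eq_dim, Fintype.card_fin]
  have h3 : ∀ (S : Multiset Ω), (∀ s ∈ S, ∃ z : K, s = algebraMap K Ω z * α) →
      ∃ z : K, S.prod = algebraMap K Ω z * α ^ Multiset.card S := by
    intro S
    induction S using Multiset.induction_on with
    | empty => exact fun _ => ⟨1, by simp⟩
    | cons a S ihS =>
      intro h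
      obtain ⟨z₁, h₁⟩ := h a (Multiset.mem_cons_self a S)
      obtain ⟨z₂, h₂⟩ := ihS fun s hs => h s (Multiset.mem_cons_of_mem hs)
      exact ⟨z₁ * z₂, by rw [Multiset.prod_cons, h₁, h₂, Multiset.card_cons, map_mul, pow_succ]; ring⟩
  obtain ⟨w, hw⟩ := h3 _ heig
  rw [← hdet, hcard, hc] at hw
  have hw0 : w ≠ 0 := fun h => by
    rw [h, map_zero, zero_mul] at hw
    have := (Matrix.isUnit_iff_isUnit_det _).1 (hx.map g)
    rw [hc, hw] at this
    exact not_isUnit_zero this
  have hrn : r ∣ n := hmin n ⟨c * w⁻¹, by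
    rw [map_mul, map_inv₀, hw, mul_comm (algebraMap K Ω w),
      mul_inv_cancel_right₀ (by simpa using hw0)]⟩
  refine ⟨r, hr, hrn, exists_binomials hK hα hm hr ⟨c₀, hc₀⟩ hmin _ _
    (minpoly.monic (Algebra.IsIntegral.isIntegral x)) rfl fun t ht => ?_⟩
  have hd : minpoly K x ∣ X ^ m - C a := minpoly.dvd K x (by simp [ha])
  have := aeval_eq_zero_of_dvd_aeval_eq_zero hd ht
  rw [hαm]
  simpa [sub_eq_zero] using this

theorem pow_mem_of_division {A : Type v} [DivisionRing A] [Algebra K A] [Algebra.IsCentral K A]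
    [FiniteDimensional K A] (n : ℕ) (hn : finrank K A = n ^ 2)
    (x : A) (hxm : ∃ m : ℕ, 0 < m ∧ x ^ m ∈ (algebraMap K A).range) :
    x ^ n ∈ (algebraMap K A).range := by
  rcases eq_or_ne x 0 with rfl | hx
  · have hn0 : n ≠ 0 := (RedNorm.degree_pos hn).ne'
    exact ⟨0, by rw [map_zero, zero_pow hn0]⟩
  obtain ⟨r, hr, ⟨q, rfl⟩, s, hs⟩ := minpoly_binomials hK n hn x (Ne.isUnit hx) hxm
  have key : ∀ s : Multiset K, aeval x (s.map fun a : K => X ^ r - C a).prod = 0 →
      x ^ r ∈ (algebraMap K A).range := by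
    intro s
    induction s using Multiset.induction_on with
    | empty => intro h; simp at h
    | cons a s ih =>
      intro h
      rw [Multiset.map_cons, Multiset.prod_cons, map_mul, mul_eq_zero] at h
      rcases h with h | h
      · exact ⟨a, by simp [sub_eq_zero] at h; exact h.symm⟩
      · exact ih h
  rw [pow_mul]
  exact pow_mem (key s (hs ▸ minpoly.aeval K x)) q

end GrothLib.BddFinDiv
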